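import Groth.Agent.Lib.EtDescent.Effective
import Groth.Agent.Lib.EtDescent.Integral
import Groth.Agent.Lib.PropH0.PropBC

/-!
# Effective descent of étale sheaves along proper surjective morphisms
-/

universe u

open CategoryTheory CategoryTheory.Limits AlgebraicGeometry Opposite
open GrothLib.EtSite GrothLib.EtSec

set_option backward.isDefEq.respectTransparency.types false

noncomputable section

namespace GrothLib.EtDescent

variable {X' X : Scheme.{u}} {f : X' ⟶ X} {F' : EtDesc.Sh X'}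
  {φ : (EtDesc.pullSh (pullback.fst f f)).obj F' ≅ (EtDesc.pullSh (pullback.snd f f)).obj F'}

theorem univSubmersive_of_proper [IsProper f] [Surjective f] : EtDesc.IsUnivSubmersive f := fun T t => by
  haveI : Surjective (pullback.snd f t) := MorphismProperty.pullback_snd _ _ ‹Surjective f›
  haveI : IsProper (pullback.snd f t) := MorphismProperty.pullback_snd _ _ ‹IsProper f›
  exact ⟨(pullback.snd f t).surjective, (pullback.snd f t).isClosedMap.isQuotientMap
    (pullback.snd f t).continuous (pullback.snd f t).surjective⟩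

theorem trans_gSh_congr {K : Type u} [Field K] [IsSepClosed K] {W : X'.Etale}
    {m m' : Spec (CommRingCat.of K) ⟶ W.left} (e : m = m') {p p' p₂ : Spec (CommRingCat.of K) ⟶ X'} (hp : p = p')
    (hm : m ≫ W.hom = p) (hm' : m' ≫ W.hom = p') (h : p ≫ f = p₂ ≫ f) (h' : p' ≫ f = p₂ ≫ f)
    (t : EtDesc.sect F' W) : trans φ h (gSh F' m hm t) = trans φ h' (gSh F' m' hm' t) := by
  subst e hp; rfl

theorem extends_of_proper [IsProper f] (hφ : EtDesc.IsCocycle F' φ) : Extends φ := by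
  intro x
  obtain ⟨Ω, _, _, ξ₀, hx⟩ := Secs.exists_point x
  refine ⟨Ω, inferInstance, inferInstance, ξ₀, hx, fun y => ?_⟩
  obtain ⟨W₁, l₁', hl₁, t₁, rfl⟩ := exists_gSh y
  let y := gSh F' l₁' hl₁ t₁
  obtain ⟨N, H, _, _, _, e, he⟩ := PropH0.exists_proNbhd_sh (ξ₀ ≫ f)
  let C : Secs (pullback.fst (ξ₀ ≫ f) f ≫ ξ₀) F' := Secs.ofSect (pullback.fst (ξ₀ ≫ f) f ≫ l₁')
    ((Category.assoc _ _ _).trans (congrArg (pullback.fst (ξ₀ ≫ f) f ≫ ·) hl₁)) t₁
  let τ₀ : Secs (pullback.snd (ξ₀ ≫ f) f) F' := transSecs φ ((Category.assoc _ _ _).trans pullback.condition) C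
  obtain ⟨τ, hτ⟩ := (PropH0.resT_pt_bijective f N H e he).2 τ₀
  obtain ⟨i, s, hs⟩ := N.exists_stage f τ
  haveI := N.etale i
  let V : X.Etale := Scheme.Etale.mk (N.b i)
  let v : Spec (CommRingCat.of Ω) ⟶ V.left := N.pt ≫ N.c.π.app i
  have hv : v ≫ V.hom = ξ₀ ≫ f := (Category.assoc _ _ _).trans ((congrArg (N.pt ≫ ·) (N.hbc i)).trans N.hpt)
  let σ₀ : Secs (pullback.snd V.hom f) F' := s
  have hres : resT f v hv σ₀ = τ₀ := by
    rw [← hτ, ← hs]
    exact (resT_resT f _ _ _ _ s).symm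
  have hz : ∀ (K : Type u) [Field K] [IsSepClosed K] (k : Spec (CommRingCat.of K) ⟶ Spec (CommRingCat.of Ω))
      (l : Spec (CommRingCat.of K) ⟶ pullback V.hom f) (ξ : Spec (CommRingCat.of K) ⟶ X')
      (hl : l ≫ pullback.snd V.hom f = ξ) (h₀ : (k ≫ ξ₀) ≫ f = ξ ≫ f), l ≫ pullback.fst V.hom f = k ≫ v →
        σ₀.val K l ξ hl = trans φ h₀ (gSh F' (k ≫ l₁') ((Category.assoc _ _ _).trans (congrArg (k ≫ ·) hl₁)) t₁) := by
    intro K _ _ k l ξ hl h₀ hlv
    let c : Spec (CommRingCat.of K) ⟶ pullback (ξ₀ ≫ f) f := pullback.lift k ξ ((Category.assoc _ _ _).symm.trans h₀)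
    have hc₁ : c ≫ pullback.fst (ξ₀ ≫ f) f = k := pullback.lift_fst _ _ _
    have hc₂ : c ≫ pullback.snd (ξ₀ ≫ f) f = ξ := pullback.lift_snd _ _ _
    have hcl : c ≫ bmap f v hv = l := by
      refine pullback.hom_ext ?_ ?_
      · rw [Category.assoc, bmap_fst, ← Category.assoc, hc₁, hlv]
      · rw [Category.assoc, bmap_snd, hc₂, hl]
    have := congrArg (fun σ : Secs (pullback.snd (ξ₀ ≫ f) f) F' => σ.val K c ξ hc₂) hres
    simp only [resT, Secs.res_val] at this
    refine (σ₀.val_congr hcl.symm _ _).trans (this.trans ?_)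
    rw [transSecs_val φ _ C K c ((Category.assoc _ _ _).symm.trans (congrArg (· ≫ ξ₀) hc₁)) hc₂, Secs.ofSect_val]
    exact congrArg _ (gSh_congr ((Category.assoc _ _ _).symm.trans (congrArg (· ≫ l₁') hc₁)) _ _ t₁)
  let π : pullback V.hom f ⟶ V.left := pullback.fst V.hom f
  let a : pullback V.hom f ⟶ X' := pullback.snd V.hom f
  have hb : a ≫ f = π ≫ V.hom := pullback.condition.symm
  let P := pullback π π
  let ρ : P ⟶ V.left := pullback.fst π π ≫ π
  haveI : UniversallyClosed π := MorphismProperty.pullback_fst _ _ (inferInstanceAs (UniversallyClosed f))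
  haveI : UniversallyClosed (pullback.fst π π) := MorphismProperty.pullback_fst _ _ ‹UniversallyClosed π›
  haveI : UniversallyClosed ρ := inferInstance
  let E := Secs.eqLocus (compatLHS φ hb σ₀) (σ₀.res (pullback.snd π π) rfl)
  have hfib : ∀ w : P, ρ.base w = v.base default → w ∈ E := by
    intro w hw
    obtain ⟨u, hu, -⟩ := Scheme.Pullback.exists_preimage_pullback (f := ρ) (g := v) w default hw
    obtain ⟨K, _, _, q, hqu⟩ := Secs.exists_point u
    let r : Spec (CommRingCat.of K) ⟶ P := q ≫ pullback.fst ρ v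
    let k : Spec (CommRingCat.of K) ⟶ Spec (CommRingCat.of Ω) := q ≫ pullback.snd ρ v
    have hrv : r ≫ ρ = k ≫ v := by simp only [r, k, Category.assoc, pullback.condition]
    have hw' : r.base default = w := (congrArg (pullback.fst ρ v).base hqu).trans hu
    rw [← hw']
    let l₁ := r ≫ pullback.fst π π
    let l₂ := r ≫ pullback.snd π π
    have e₁ : l₁ ≫ π = k ≫ v := (Category.assoc _ _ _).trans hrv
    have e₂ : l₂ ≫ π = k ≫ v :=
      (Category.assoc _ _ _).trans ((congrArg (r ≫ ·) pullback.condition.symm).trans hrv)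
    have hη : ∀ l : Spec (CommRingCat.of K) ⟶ pullback V.hom f, l ≫ π = k ≫ v → (k ≫ ξ₀) ≫ f = (l ≫ a) ≫ f :=
      fun l hl => by
        rw [Category.assoc, ← hv, ← Category.assoc, ← hl, Category.assoc, ← hb, Category.assoc]
    refine (Secs.mem_eqLocus_iff _ _ r (l₂ ≫ a) (Category.assoc _ _ _).symm).2 ?_
    rw [compatLHS_val hb σ₀ K r rfl rfl rfl rfl ((hη l₁ e₁).symm.trans (hη l₂ e₂)), Secs.res_val]
    refine (congrArg (trans φ _) (hz K k l₁ (l₁ ≫ a) rfl (hη l₁ e₁) e₁)).trans ?_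
    refine (trans_trans hφ _ _ (hη l₂ e₂) _).trans ?_
    exact (hz K k l₂ (l₂ ≫ a) rfl (hη l₂ e₂) e₂).symm
  let O : V.left.Opens := ⟨(ρ.base '' Eᶜ)ᶜ,
    (ρ.isClosedMap _ (Secs.isOpen_eqLocus _ _).isClosed_compl).isOpen_compl⟩
  have hvO : v.base default ∈ O := fun ⟨w, hwE, hw⟩ => hwE (hfib w hw)
  let vh : V.left ⟶ X := V.hom
  haveI : Etale vh := V.prop
  let U : X.Etale := Scheme.Etale.mk (O.ι ≫ vh)
  let ro : U ⟶ V := MorphismProperty.Over.homMk O.ι rfl
  obtain ⟨v', hv', -⟩ := exists_lift O.ι v ⟨_, hvO⟩ rfl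
  let σ : Secs (pullback.snd U.hom f) F' := σ₀.res (bcl ro) (bcl_snd ro)
  have hσ : DCompat φ (pullback.fst U.hom f) σ := by
    intro K _ _ p q p₁ q₁ hp hq hpq h
    have hπ : (p ≫ bcl ro) ≫ π = (q ≫ bcl ro) ≫ π := by
      rw [Category.assoc, Category.assoc, bcl_fst, ← Category.assoc, hpq, Category.assoc]
    let r : Spec (CommRingCat.of K) ⟶ P := pullback.lift (p ≫ bcl ro) (q ≫ bcl ro) hπ
    have hr₁ : r ≫ pullback.fst π π = p ≫ bcl ro := pullback.lift_fst _ _ _
    have hr₂ : r ≫ pullback.snd π π = q ≫ bcl ro := pullback.lift_snd _ _ _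
    have hrE : r.base default ∈ E := by
      by_contra hc
      have hO : ρ.base (r.base default) ∈ O := by
        have e : r ≫ ρ = (p ≫ pullback.fst U.hom f) ≫ O.ι := by
          refine (Category.assoc _ _ _).symm.trans ((congrArg (· ≫ π) hr₁).trans ?_)
          exact (Category.assoc _ _ _).trans ((congrArg (p ≫ ·) (bcl_fst ro)).trans (Category.assoc _ _ _).symm)
        rw [show ρ.base (r.base default) = O.ι.base ((p ≫ pullback.fst U.hom f).base default) from
          congrArg (fun k : Spec (CommRingCat.of K) ⟶ V.left => k.base default) e]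
        exact ((p ≫ pullback.fst U.hom f).base default).2
      exact hO ⟨_, hc, rfl⟩
    have hp₁ : (p ≫ bcl ro) ≫ a = p₁ := (Category.assoc _ _ _).trans ((congrArg (p ≫ ·) (bcl_snd ro)).trans hp)
    have hq₁ : (q ≫ bcl ro) ≫ a = q₁ := (Category.assoc _ _ _).trans ((congrArg (q ≫ ·) (bcl_snd ro)).trans hq)
    have h2 : r ≫ pullback.snd π π ≫ a = q₁ := (Category.assoc _ _ _).symm.trans ((congrArg (· ≫ a) hr₂).trans hq₁)
    have := (Secs.mem_eqLocus_iff _ _ r q₁ h2).1 hrE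
    rw [compatLHS_val hb σ₀ K r hr₁ hr₂ hp₁ hq₁ h h2, Secs.res_val] at this
    rw [Secs.res_val, Secs.res_val]
    exact this.trans (σ₀.val_congr hr₂ _ hq₁)
  have hU : v' ≫ U.hom = ξ₀ ≫ f := (Category.assoc _ _ _).symm.trans ((congrArg (· ≫ vh) hv').trans hv)
  let l : Spec (CommRingCat.of Ω) ⟶ pullback U.hom f := pullback.lift v' ξ₀ hU
  refine ⟨U, l, pullback.lift_snd _ _ _, ⟨σ, hσ⟩, ?_⟩
  have hl : (l ≫ bcl ro) ≫ pullback.snd V.hom f = ξ₀ :=
    (Category.assoc _ _ _).trans ((congrArg (l ≫ ·) (bcl_snd ro)).trans (pullback.lift_snd _ _ _))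
  refine (σ.val_congr rfl _ (pullback.lift_snd _ _ _)).trans ?_
  show σ₀.val Ω (l ≫ bcl ro) ξ₀ hl = y
  refine (hz Ω (𝟙 _) (l ≫ bcl ro) ξ₀ hl (congrArg (· ≫ f) (Category.id_comp ξ₀)) ?_).trans ?_
  · exact (Category.assoc _ _ _).trans ((congrArg (l ≫ ·) (bcl_fst ro)).trans
      ((Category.assoc _ _ _).symm.trans ((congrArg (· ≫ O.ι) (pullback.lift_fst _ _ _)).trans
        (hv'.trans (Category.id_comp v).symm))))
  · refine Eq.trans ?_ (trans_self hφ rfl y)
    exact trans_gSh_congr (Category.id_comp l₁') (Category.id_comp ξ₀) _ _ _ _ t₁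

theorem isEffective_of_proper [IsProper f] [Surjective f] (hφ : EtDesc.IsCocycle F' φ) :
    EtDesc.IsEffective f F' φ :=
  isEffective_of_extends univSubmersive_of_proper hφ (extends_of_proper hφ)

end GrothLib.EtDescent
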